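import Mathlib
import Cfsg.Agent.Lib.ClMax.ExtSp

/-!
Maximality of the field extension subgroups `ΓL_{n/r}(q^r)` of `GL_n(q)` and `SL_n(q)`.
-/

set_option autoImplicit false

namespace CfsgLib.ClMax

open Module Matrix

universe u

variable {F : Type*} (K : Type*) {V : Type*} [Field F] [Field K] [Algebra F K] [AddCommGroup V]
  [Module F V] [Module K V] [IsScalarTower F K V]

/-- `X` contains the semilinear maps of determinant one. -/
structure SLExt (X : Subgroup (V ≃ₗ[F] V)) : Prop where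
  hH : ∀ g ∈ SLV F V, SemiK K g → g ∈ X
  hd : 2 ≤ finrank K V

/-- `X` contains the transvections with centre `u` whose axis contains `K u`. -/
def LineTv (X : Subgroup (V ≃ₗ[F] V)) (u : V) : Prop :=
  ∀ φ : Dual F V, (∀ k : K, φ (k • u) = 0) → HasTv X u φ

variable {K}

theorem exists_not_mem_line (hd : 2 ≤ finrank K V) (v : V) : ∃ w, w ∉ Submodule.span K {v} := by
  by_contra h
  push Not at h
  have h1 : Submodule.span K {v} = ⊤ := eq_top_iff.2 fun x _ => h x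
  have h2 := finrank_span_singleton_le (F := K) v
  rw [h1, finrank_top] at h2
  omega

/-- The dilation-transvection `v ↦ v + ψ v • w` and its determinant over `F`. -/
theorem exists_dil [FiniteDimensional K V] (ψ : Dual K V) (w : V) (h : 1 + ψ w ≠ 0) :
    ∃ g : V ≃ₗ[F] V, SemiK K g ∧ (∀ v, g v = v + ψ v • w) ∧
      LinearMap.det (g : V →ₗ[F] V) = Algebra.norm F (1 + ψ w) := by
  refine ⟨(LinearEquiv.dilatransvection (f := ψ) (v := w) h.isUnit).restrictScalars F,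
    semiK_restrict _, fun v => LinearEquiv.dilatransvection.apply (h := h.isUnit), ?_⟩
  have := LinearMap.det_restrictScalars (R := F) (f := LinearMap.transvection ψ w)
  rw [LinearMap.transvection.det] at this
  exact this

/-- A basis `1, β` of a quadratic extension. -/
theorem exists_coord_two (hr : finrank F K = 2) {β : K} (hβ : β ∉ Submodule.span F {(1 : K)}) :
    ∃ p q : K →ₗ[F] F, (∀ k, k = p k • (1 : K) + q k • β) ∧ q β = 1 := by
  have hli : LinearIndependent F ![(1 : K), β] := by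
    rw [LinearIndependent.pair_iff' one_ne_zero]
    intro a ha
    exact hβ (Submodule.mem_span_singleton.2 ⟨a, ha⟩)
  let b := basisOfLinearIndependentOfCardEqFinrank hli (by simp [hr])
  have hb0 : b 0 = 1 := by simp [b]
  have hb1 : b 1 = β := by simp [b]
  refine ⟨b.coord 0, b.coord 1, fun k => ?_, by simp [← hb1]⟩
  have := b.sum_repr k
  rw [Fin.sum_univ_two, hb0, hb1] at this
  exact this.symm

namespace SLExt

variable {X : Subgroup (V ≃ₗ[F] V)} [FiniteDimensional K V]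

theorem dil (h : SLExt K X) (ψ : Dual K V) (w : V) (hn : Algebra.norm F (1 + ψ w) = 1)
    (h0 : 1 + ψ w ≠ 0) : ∃ g ∈ X, ∀ v, g v = v + ψ v • w := by
  obtain ⟨g, h1, h2, h3⟩ := exists_dil (F := F) ψ w h0
  exact ⟨g, h.hH g (mem_SLV.2 (h3.trans hn)) h1, h2⟩

theorem tv (h : SLExt K X) (ψ : Dual K V) (w : V) (hn : ψ w = 0) :
    ∃ g ∈ X, ∀ v, g v = v + ψ v • w := h.dil ψ w (by simp [hn]) (by simp [hn])

theorem trans (h : SLExt K X) (v w : V) (hv : v ≠ 0) (hw : w ≠ 0) :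
    ∃ g ∈ X, (∀ (k : K) x, g (k • x) = k • g x) ∧ g v = w := by
  have key : ∀ v w : V, v ≠ 0 → w ∉ Submodule.span K {v} →
      ∃ g ∈ X, (∀ (k : K) x, g (k • x) = k • g x) ∧ g v = w := by
    intro v w hv hw
    obtain ⟨ψ, h1, h2⟩ := exists_dual_one_zero (F := K) (u := v) (v := w - v) (fun h1 => by
      obtain ⟨c, hc⟩ := Submodule.mem_span_singleton.1 h1
      have hc0 : c ≠ 0 := by rintro rfl; exact hv (by simpa using hc.symm)
      refine hw (Submodule.mem_span_singleton.2 ⟨1 + c⁻¹, ?_⟩)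
      rw [add_smul, one_smul]
      nth_rewrite 2 [← hc]
      rw [smul_smul, inv_mul_cancel₀ hc0]; simp)
    obtain ⟨g, hg, hg'⟩ := h.tv ψ (w - v) h2
    exact ⟨g, hg, fun k x => by simp [hg', smul_smul], by simp [hg', h1]⟩
  by_cases hvw : w ∈ Submodule.span K {v}
  · obtain ⟨z, hz⟩ := exists_not_mem_line h.hd v
    have hz0 : z ≠ 0 := by rintro rfl; exact hz (Submodule.zero_mem _)
    obtain ⟨g, hg, h1, h2⟩ := key v z hv hz
    obtain ⟨g', hg', h1', h2'⟩ := key z w hz0 (fun h3 => by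
      obtain ⟨c, hc⟩ := Submodule.mem_span_singleton.1 h3
      have hc0 : c ≠ 0 := by rintro rfl; exact hw (by simpa using hc.symm)
      apply hz
      have : z = c⁻¹ • w := by rw [← hc, smul_smul, inv_mul_cancel₀ hc0, one_smul]
      exact this ▸ Submodule.smul_mem _ _ hvw)
    exact ⟨g' * g, X.mul_mem hg' hg, fun k x => by simp [h1, h1'], by simp [h2, h2']⟩
  · exact key v w hv hvw

theorem flex (h : SLExt K X) (u : V) (k : K) (x : V) (hx : x ∉ Submodule.span K {u}) :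
    ∃ t ∈ X, (∀ c : K, t (c • u) = c • u) ∧ t x = x + k • u ∧ ∀ v, t (t v - v) = t v - v := by
  obtain ⟨ψ, h1, h2⟩ := exists_dual_one_zero hx
  obtain ⟨g, hg, hg'⟩ := h.tv (k • ψ) u (by simp [h2])
  exact ⟨g, hg, fun c => by simp [hg', h2], by simp [hg', h1], fun v => by simp [hg', h2]⟩

theorem SLV_le_of_lineTv [Finite K] (h : SLExt K X) {u : V} (hu : u ≠ 0) (hL : LineTv K X u) :
    SLV F V ≤ X := by
  have : FiniteDimensional F V := Module.Finite.trans K V
  have hall : ∀ y, y ≠ 0 → LineTv K X y := by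
    intro y hy φ hφ
    obtain ⟨g, hg, h1, rfl⟩ := h.trans u y hu hy
    exact (hL (φ ∘ₗ (g : V →ₗ[F] V)) fun k => by simp [h1, hφ]).conj' hg fun x => rfl
  obtain ⟨l, hl⟩ := exists_dual_ne_zero F K
  have hl0 : l ≠ 0 := by rintro rfl; simp at hl
  refine SLV_le_of_forall fun y φ hy hφ => ?_
  obtain ⟨ψ, hψ⟩ := exists_dual_lift (K := K) hl0 φ
  by_cases hψy : ψ y = 0
  · exact hall y hy φ fun k => by rw [← hψ, hψy]; simp
  obtain ⟨w, hw⟩ := exists_not_mem_line h.hd y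
  set z := w - (ψ w / ψ y) • y with hz
  have hzL : z ∉ Submodule.span K {y} := fun h1 => hw (by
    simpa [hz] using Submodule.add_mem _ h1
      (Submodule.smul_mem _ (ψ w / ψ y) (Submodule.mem_span_singleton_self y)))
  have hz0 : z ≠ 0 := by rintro h1; exact hzL (h1 ▸ Submodule.zero_mem _)
  have hψz : ψ z = 0 := by simp [hz, hψy]
  obtain ⟨φ₁, h1, h2⟩ := exists_dual_one (W := (Submodule.span K {y}).restrictScalars F) hzL
  have h3 : ∀ k : K, φ₁ (k • y) = 0 := fun k =>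
    h2 _ (Submodule.smul_mem _ k (Submodule.mem_span_singleton_self y))
  have h4 : ∀ k : K, φ (k • z) = 0 := fun k => by rw [← hψ, hψz]; simp
  have := (hall y hy φ₁ h3).comm (hall z hz0 φ h4) (by simpa using h3 1) (by simpa using h4 1) hφ
  rwa [h1, one_smul] at this

/-- The main case: an element stabilising `K u` that is not semilinear on it. -/
theorem lineTv_of_not_semi [Finite K] (h : SLExt K X) (hr : (finrank F K).Prime) {u : V}
    (hu : u ≠ 0) {g : V ≃ₗ[F] V} (hg : g ∈ X) {α : K →ₗ[F] K} (hα : ∀ k, g (k • u) = α k • u)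
    (hns : ¬ Semi α) : LineTv K X u := by
  have : Finite F := Finite.of_injective _ (algebraMap F K).injective
  have := Fintype.ofFinite F
  have hinj : ∀ a b : K, a • u = b • u → a = b := fun a b h => smul_left_injective K hu h
  have hαi : Function.Injective α := fun a b hab => by
    have : g (a • u) = g (b • u) := by rw [hα, hα, hab]
    exact hinj _ _ (g.injective this)
  have hαs : Function.Surjective α := Finite.surjective_of_injective hαi
  let e := LinearEquiv.ofBijective α ⟨hαi, hαs⟩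
  let β : K →ₗ[F] K := e.symm
  have hαβ : ∀ k, α (β k) = k := e.apply_symm_apply
  have hβα : ∀ k, β (α k) = k := e.symm_apply_apply
  have hβ : ∀ k, g⁻¹ (k • u) = β k • u := fun k => by
    apply g.injective; rw [apply_inv_apply, hα, hαβ]
  let R : AddSubgroup (V →ₗ[F] K) :=
    { carrier := {φ | (∀ k : K, φ (k • u) = 0) ∧ ∃ t ∈ X, ∀ v, t v = v + φ v • u}
      zero_mem' := ⟨fun _ => rfl, 1, X.one_mem, fun v => by simp⟩
      add_mem' := by
        rintro s s' ⟨h0, t, ht, h1⟩ ⟨h0', t', ht', h2⟩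
        refine ⟨fun k => by simp [h0, h0'], t * t', X.mul_mem ht ht', fun v => ?_⟩
        rw [LinearEquiv.mul_apply, h1, h2, map_add, h0]
        simp only [LinearMap.add_apply]; module
      neg_mem' := by
        rintro s ⟨h0, t, ht, h1⟩
        refine ⟨fun k => by simp [h0], t⁻¹, X.inv_mem ht, fun v => ?_⟩
        apply t.injective
        rw [apply_inv_apply, h1, map_add, h0]
        simp }
  have hconj : ∀ (p : V ≃ₗ[F] V), p ∈ X → ∀ γ γ' : K →ₗ[F] K, (∀ k, p (k • u) = γ k • u) →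
      (∀ k, p⁻¹ (k • u) = γ' k • u) → ∀ φ ∈ R, γ ∘ₗ φ ∘ₗ (p⁻¹ : V ≃ₗ[F] V) ∈ R := by
    rintro p hp γ γ' h1 h2 φ ⟨h0, t, ht, h3⟩
    refine ⟨fun k => by
        rw [LinearMap.comp_apply, LinearMap.comp_apply, LinearEquiv.coe_coe, h2, h0, map_zero],
      p * t * p⁻¹,
      X.mul_mem (X.mul_mem hp ht) (X.inv_mem hp), fun v => ?_⟩
    rw [LinearEquiv.mul_apply, LinearEquiv.mul_apply, h3, map_add, apply_inv_apply, h1]
    rfl
  let O : Subring (Module.End F K) :=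
    { carrier := {x | ∀ φ ∈ R, x ∘ₗ φ ∈ R}
      mul_mem' := fun {a b} ha hb φ hφ => ha _ (hb φ hφ)
      one_mem' := fun φ hφ => hφ
      add_mem' := fun {a b} ha hb φ hφ => by
        rw [LinearMap.add_comp]; exact R.add_mem (ha φ hφ) (hb φ hφ)
      zero_mem' := fun φ hφ => by rw [LinearMap.zero_comp]; exact R.zero_mem
      neg_mem' := fun {a} ha φ hφ => by rw [LinearMap.neg_comp]; exact R.neg_mem (ha φ hφ) }
  have hK : ∀ k : K, LinearMap.mulLeft F k ∈ O := by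
    have := subring_eq_top_of_pow hr.two_le (O.comap (Algebra.lmul F K).toRingHom) fun d hd => by
      set c := d ^ (Fintype.card F - 1) with hc
      have hc0 : c ≠ 0 := pow_ne_zero _ hd
      obtain ⟨θ, hθ⟩ := exists_dual_one_of_ne (F := K) hu
      have hn : Algebra.norm F c = 1 := by
        rw [hc, map_pow]
        exact FiniteField.pow_card_sub_one_eq_one _ (by simpa using hd)
      obtain ⟨p, hp, hp'⟩ := h.dil ((c - 1) • θ) u (by simpa [hθ] using hn) (by simpa [hθ])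
      have h1 : ∀ k : K, p (k • u) = (c * k) • u := fun k => by
        rw [hp']; simp only [map_smul, LinearMap.smul_apply, hθ, smul_eq_mul]; module
      have h2 : ∀ k : K, p⁻¹ (k • u) = (c⁻¹ * k) • u := fun k => by
        apply p.injective; rw [apply_inv_apply, h1, mul_inv_cancel_left₀ hc0]
      intro φ hφ
      have h3 := hconj p hp (LinearMap.mulLeft F c) (LinearMap.mulLeft F c⁻¹) h1 h2 φ hφ
      convert h3 using 1
      ext v
      have h4 := hp' (p⁻¹ v)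
      rw [apply_inv_apply] at h4
      have h5 : φ v = φ (p⁻¹ v) := by
        conv_lhs => rw [h4, map_add, hφ.1, add_zero]
      simp [h5]
    exact fun k => (this ▸ Subring.mem_top k : k ∈ O.comap (Algebra.lmul F K).toRingHom)
  obtain ⟨k, hk⟩ : ∃ k : K, ∃ a b, α (k * β (a * b)) ≠ a * α (k * β b) := by
    by_contra h1
    push Not at h1
    refine hns fun k => ⟨α (k * β 1), fun x => ?_⟩
    have := h1 k (α x) 1
    rwa [mul_one, hβα, mul_comm (α x)] at this
  have hO : O = ⊤ := subring_end_eq_top hr O hK (x := α ∘ₗ LinearMap.mulLeft F k ∘ₗ β)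
    (fun φ hφ => by
      have h1 := hconj g hg α β hα hβ _
        (hK k _ (hconj g⁻¹ (X.inv_mem hg) β α hβ (by simpa using hα) φ hφ))
      convert h1 using 1
      ext v
      simp) hk
  intro φ hφ
  obtain ⟨l, hl⟩ := exists_dual_ne_zero F K
  have hl0 : l ≠ 0 := by rintro rfl; simp at hl
  obtain ⟨ψ, hψ⟩ := exists_dual_lift (K := K) hl0 φ
  have hψu : ψ u = 0 := eq_zero_of_forall_mul hl0 fun k => by rw [hψ, hφ]
  have h1 : ψ.restrictScalars F ∈ R := ⟨fun k => by simp [hψu], h.tv ψ u hψu⟩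
  obtain ⟨-, t, ht, h2⟩ := (hO ▸ Subring.mem_top ((Algebra.linearMap F K) ∘ₗ l) :
    (Algebra.linearMap F K) ∘ₗ l ∈ O) _ h1
  refine ⟨t, ht, fun v => ?_⟩
  have h3 := hψ 1 v
  rw [one_mul, one_smul] at h3
  simp [h2, h3]

/-- Over the field with two elements one transvection is enough. -/
theorem lineTv_of_one [Finite K] (h : SLExt K X) (hF : ∀ c : F, c ≠ 0 → c = 1) {u : V}
    {φ₀ : Dual F V} (h0 : φ₀ ≠ 0) (h1 : ∀ k : K, φ₀ (k • u) = 0) (h2 : HasTv X u φ₀) :
    LineTv K X u := by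
  intro φ hφ
  by_cases hφ0 : φ = 0
  · rw [hφ0]; exact hasTv_zero_right u
  obtain ⟨l, hl⟩ := exists_dual_ne_zero F K
  have hl0 : l ≠ 0 := by rintro rfl; simp at hl
  obtain ⟨ψ, hψ⟩ := exists_dual_lift (K := K) hl0 φ
  obtain ⟨ψ₀, hψ₀⟩ := exists_dual_lift (K := K) hl0 φ₀
  have hψu : ψ u = 0 := eq_zero_of_forall_mul hl0 fun k => by rw [hψ, hφ]
  have hψu₀ : ψ₀ u = 0 := eq_zero_of_forall_mul hl0 fun k => by rw [hψ₀, h1]
  have hψ' : ∀ v, φ v = l (ψ v) := fun v => by simpa using (hψ 1 v).symm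
  have hψ₀' : ∀ v, φ₀ v = l (ψ₀ v) := fun v => by simpa using (hψ₀ 1 v).symm
  obtain ⟨w, -, hw, hw₀⟩ := exists_ne_zero_two ⊤ ψ ψ₀
    (by
      by_contra h3
      push Not at h3
      exact hφ0 (LinearMap.ext fun v => by simp [hψ', h3 v trivial]))
    (by
      by_contra h3
      push Not at h3
      exact h0 (LinearMap.ext fun v => by simp [hψ₀', h3 v trivial]))
  have h3 : 1 + (ψ₀ - ψ) ((ψ w)⁻¹ • w) ≠ 0 := by simp [mul_sub, hw, hw₀]
  obtain ⟨p, hp, hp'⟩ := h.dil (ψ₀ - ψ) ((ψ w)⁻¹ • w) (hF _ (by simpa using h3)) h3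
  have := h2.conj' (φ' := φ) hp fun x => by rw [hψ', hψ₀', hp']; simp [hw]
  rwa [hp', show (ψ₀ - ψ) u = 0 by simp [hψu, hψu₀], zero_smul, add_zero] at this

theorem exists_tv_three (h : SLExt K X) (hr : finrank F K = 2) (hd : 3 ≤ finrank K V) {y : V}
    {g : V ≃ₗ[F] V} (hg : g ∈ X) (hgy : g y = y) {β : K} (hβ : g (β • y) ∉ Submodule.span K {y}) :
    ∃ φ₀ : Dual F V, φ₀ ≠ 0 ∧ (∀ k : K, φ₀ (k • y) = 0) ∧ HasTv X y φ₀ := by
  obtain ⟨p, q, hpq, hq⟩ := exists_coord_two hr (β := β) (fun h1 => by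
    obtain ⟨c, rfl⟩ := Submodule.mem_span_singleton.1 h1
    apply hβ
    rw [smul_one_smul, map_smul, hgy]
    exact Submodule.smul_of_tower_mem _ _ (Submodule.mem_span_singleton_self _))
  have hgy' : g⁻¹ y = y := by apply g.injective; rw [apply_inv_apply, hgy]
  set z := g (β • y) with hz
  have hky : ∀ k : K, k • y = p k • y + q k • β • y := fun k => by
    conv_lhs => rw [hpq k, add_smul, smul_assoc, smul_assoc, one_smul]
  obtain ⟨w, hw⟩ : ∃ w, w ∉ Submodule.span K {y, g⁻¹ (β • y)} := by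
    by_contra h1
    push Not at h1
    have h2 : Submodule.span K {y, g⁻¹ (β • y)} = ⊤ := eq_top_iff.2 fun x _ => h1 x
    have h3 := finrank_span_pair_le (F := K) y (g⁻¹ (β • y))
    rw [h2, finrank_top] at h3
    omega
  obtain ⟨ψ, hψ1, hψ2⟩ := exists_dual_one hw
  have hψy : ψ y = 0 := hψ2 _ (Submodule.subset_span (by simp))
  have hψb : ψ (g⁻¹ (β • y)) = 0 := hψ2 _ (Submodule.subset_span (by simp))
  let Ψ : V →ₗ[F] K := ψ.restrictScalars F ∘ₗ (g⁻¹ : V ≃ₗ[F] V)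
  have hΨ : ∀ v, Ψ v = ψ (g⁻¹ v) := fun v => rfl
  have hΨL : ∀ k : K, Ψ (k • y) = 0 := fun k => by
    rw [hky, map_add, map_smul, map_smul, hΨ, hΨ, hgy', hψy, hψb]; simp
  have hΨy : Ψ y = 0 := by simpa using hΨL 1
  have hΨz : Ψ z = 0 := by rw [hΨ, hz, inv_apply_apply]; simp [hψy]
  obtain ⟨t, ht, ht'⟩ := h.tv ψ y hψy
  have hs : ∀ v, (g * t * g⁻¹) v = v + p (Ψ v) • y + q (Ψ v) • z := fun v => by
    rw [LinearEquiv.mul_apply, LinearEquiv.mul_apply, ht', map_add, apply_inv_apply, hky, map_add,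
      map_smul, map_smul, hgy, add_assoc]
    rfl
  have hsX : g * t * g⁻¹ ∈ X := X.mul_mem (X.mul_mem hg ht) (X.inv_mem hg)
  set s := g * t * g⁻¹
  have hs' : ∀ v, s⁻¹ v = v - p (Ψ v) • y - q (Ψ v) • z := fun v => by
    apply s.injective
    rw [apply_inv_apply, hs]
    simp only [map_sub, map_smul, hΨy, hΨz, smul_zero, sub_zero]
    abel
  obtain ⟨θ, hθ1, hθ2⟩ := exists_dual_one_zero hβ
  obtain ⟨a, ha, ha'⟩ := h.tv θ y hθ2
  have ha'' : ∀ v, a⁻¹ v = v - θ v • y := fun v => by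
    apply a.injective
    rw [apply_inv_apply, ha']
    simp [hθ2]
  have hay : a y = y := by simp [ha', hθ2]
  have haz : a z = z + y := by simp [ha', hθ1]
  refine ⟨q ∘ₗ Ψ, fun h1 => ?_, fun k => by simp [hΨL], a * s * a⁻¹ * s⁻¹,
    X.mul_mem (X.mul_mem (X.mul_mem ha hsX) (X.inv_mem ha)) (X.inv_mem hsX), fun v => ?_⟩
  · have := DFunLike.congr_fun h1 (g (β • w))
    simp [hΨ, inv_apply_apply, hψ1, hq] at this
  · rw [LinearEquiv.mul_apply, LinearEquiv.mul_apply, LinearEquiv.mul_apply, hs, map_add, map_add,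
      apply_inv_apply, map_smul, map_smul, hay, haz, ha'', map_sub, hΨL, sub_zero, hs']
    simp only [map_sub, map_smul, hΨy, hΨz, smul_zero, sub_zero, LinearMap.comp_apply]
    module

omit [FiniteDimensional K V] in
theorem tv_of_basis_four (h : SLExt K X) (hF : ∀ c : F, c ≠ 0 → c = 1) (e : Basis (Fin 4) F V)
    {β : K} (hpq : ∀ k : K, ∃ a b : F, k = a • (1 : K) + b • β) (h0 : β • e 0 = e 1)
    (h1 : β • e 1 = e 0 + e 1) (h2 : β • e 2 = e 3) (h3 : β • e 3 = e 2 + e 3) {s : V ≃ₗ[F] V}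
    (hs : s ∈ X) (s0 : s (e 0) = e 0) (s2 : s (e 2) = e 2)
    (s13 : s (e 1) = e 0 + e 1 ∧ s (e 3) = e 3 ∨ s (e 1) = e 0 + e 1 ∧ s (e 3) = e 0 + e 3 ∨
      s (e 1) = e 1 + e 2 ∧ s (e 3) = e 0 + e 2 + e 3 ∨
      s (e 1) = e 0 + e 1 ∧ s (e 3) = e 0 + e 2 + e 3) : HasTv X (e 0) (e.coord 3) := by
  have htwo : (2 : F) = 0 := by
    by_contra h4
    exact one_ne_zero (by linear_combination hF 2 h4 : (1 : F) = 0)
  have hchar : CharP F 2 := CharTwo.of_one_ne_zero_of_two_eq_zero one_ne_zero htwo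
  let φ : ZMod 2 →+* F := ZMod.castHom dvd_rfl F
  obtain ⟨T, hT⟩ : ∃ T : Matrix (Fin 4) (Fin 4) (ZMod 2) → V →ₗ[F] V,
    ∀ A, T A = Matrix.toLin e e (A.map φ) := ⟨_, fun _ => rfl⟩
  have hTm : ∀ A A', T (A * A') = T A ∘ₗ T A' := fun A A' => by
    simp only [hT]; rw [Matrix.map_mul, Matrix.toLin_mul e e e]
  have hT1 : T 1 = LinearMap.id := by simp [hT]
  have hTa : ∀ A A', T (A + A') = T A + T A' := fun A A' => by
    simp only [hT]; rw [Matrix.map_add _ (map_add φ), map_add]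
  have hTe : ∀ A i, T A (e i) = φ (A 0 i) • e 0 + φ (A 1 i) • e 1 + φ (A 2 i) • e 2 +
      φ (A 3 i) • e 3 := fun A i => by
    rw [hT, Matrix.toLin_self, Fin.sum_univ_four]; rfl
  have hext : ∀ (f : V →ₗ[F] V) A, f (e 0) = T A (e 0) → f (e 1) = T A (e 1) →
      f (e 2) = T A (e 2) → f (e 3) = T A (e 3) → f = T A := fun f A a b c d => e.ext fun i => by
    fin_cases i <;> assumption
  let MIn : Matrix (Fin 4) (Fin 4) (ZMod 2) → Prop := fun A => ∃ t ∈ X, (t : V →ₗ[F] V) = T A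
  have hmul : ∀ {A A'}, MIn A → MIn A' → MIn (A * A') := by
    rintro A A' ⟨t, ht, h1⟩ ⟨t', ht', h1'⟩
    exact ⟨t * t', X.mul_mem ht ht', by rw [hTm, ← h1, ← h1']; rfl⟩
  let Ω : Matrix (Fin 4) (Fin 4) (ZMod 2) := !![0, 1, 0, 0; 1, 1, 0, 0; 0, 0, 0, 1; 0, 0, 1, 1]
  have hΩ : ∀ v, T Ω v = β • v := by
    have := hext ((LinearMap.lsmul K V β).restrictScalars F) Ω (by simp [hTe, Ω, h0])
      (by simp [hTe, Ω, h1]) (by simp [hTe, Ω, h2]) (by simp [hTe, Ω, h3])
    exact fun v => by rw [← this]; rfl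
  have hH : ∀ A A', A * A' = 1 → A' * A = 1 → (A * Ω = Ω * A ∨ A * Ω = (Ω + 1) * A) → MIn A := by
    intro A A' h3 h4 h5
    let t : V ≃ₗ[F] V := LinearEquiv.ofLinearMap (T A) (T A') (by rw [← hTm, h3, hT1])
      (by rw [← hTm, h4, hT1])
    refine ⟨t, h.hH t (mem_SLV.2 (hF _ (LinearEquiv.isUnit_det' t).ne_zero)) ?_, rfl⟩
    obtain ⟨γ, hγ⟩ : ∃ γ : K, ∀ v, t (β • v) = γ • t v := by
      rcases h5 with h5 | h5
      · refine ⟨β, fun v => ?_⟩
        have := congr_arg (fun A => T A v) h5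
        simp only [hTm, LinearMap.comp_apply, hΩ] at this
        exact this
      · refine ⟨β + 1, fun v => ?_⟩
        have := congr_arg (fun A => T A v) h5
        simp only [hTm, hTa, hT1, LinearMap.comp_apply, LinearMap.add_apply, hΩ,
          LinearMap.id_apply] at this
        rw [add_smul, one_smul]
        exact this
    intro k
    obtain ⟨a, b, rfl⟩ := hpq k
    refine ⟨a • (1 : K) + b • γ, fun v => ?_⟩
    simp only [add_smul, smul_assoc, one_smul, map_add, map_smul, hγ]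
  have hfin : MIn !![1, 0, 0, 1; 0, 1, 0, 0; 0, 0, 1, 0; 0, 0, 0, 1] := by
    rcases s13 with ⟨s1, s3⟩ | ⟨s1, s3⟩ | ⟨s1, s3⟩ | ⟨s1, s3⟩
    · have s : MIn !![1, 1, 0, 0; 0, 1, 0, 0; 0, 0, 1, 0; 0, 0, 0, 1] :=
        ⟨s, hs, hext _ _ (by simp [hTe, s0]) (by simp [hTe, s1]) (by simp [hTe, s2])
          (by simp [hTe, s3])⟩
      have a := hH !![0, 1, 1, 1; 1, 1, 1, 0; 0, 1, 0, 0; 1, 1, 0, 0]
        !![0, 0, 1, 1; 0, 0, 1, 0; 0, 1, 0, 1; 1, 1, 1, 1] (by decide) (by decide) (by decide)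
      have b := hH !![0, 0, 0, 1; 0, 0, 1, 0; 0, 1, 0, 1; 1, 0, 1, 0]
        !![0, 1, 0, 1; 1, 0, 1, 0; 0, 1, 0, 0; 1, 0, 0, 0] (by decide) (by decide) (by decide)
      convert hmul (hmul a s) (hmul b s) using 1
      decide
    · have s : MIn !![1, 1, 0, 1; 0, 1, 0, 0; 0, 0, 1, 0; 0, 0, 0, 1] :=
        ⟨s, hs, hext _ _ (by simp [hTe, s0]) (by simp [hTe, s1]) (by simp [hTe, s2])
          (by simp [hTe, s3])⟩
      have a := hH !![0, 1, 1, 1; 1, 1, 1, 0; 0, 1, 0, 0; 1, 1, 0, 0]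
        !![0, 0, 1, 1; 0, 0, 1, 0; 0, 1, 0, 1; 1, 1, 1, 1] (by decide) (by decide) (by decide)
      have b := hH !![0, 0, 0, 1; 0, 0, 1, 0; 0, 1, 0, 1; 1, 0, 1, 0]
        !![0, 1, 0, 1; 1, 0, 1, 0; 0, 1, 0, 0; 1, 0, 0, 0] (by decide) (by decide) (by decide)
      convert hmul (hmul s b) (hmul s a) using 1
      decide
    · have s : MIn !![1, 0, 0, 1; 0, 1, 0, 0; 0, 1, 1, 1; 0, 0, 0, 1] :=
        ⟨s, hs, hext _ _ (by simp [hTe, s0]) (by simp [hTe, s1]) (by simp [hTe, s2])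
          (by simp [hTe, s3])⟩
      have a := hH !![0, 0, 0, 1; 0, 0, 1, 0; 1, 0, 1, 1; 1, 1, 0, 1]
        !![1, 1, 1, 0; 0, 1, 1, 1; 0, 1, 0, 0; 1, 0, 0, 0] (by decide) (by decide) (by decide)
      have b := hH !![0, 0, 0, 1; 0, 0, 1, 0; 0, 1, 0, 0; 1, 0, 0, 0]
        !![0, 0, 0, 1; 0, 0, 1, 0; 0, 1, 0, 0; 1, 0, 0, 0] (by decide) (by decide) (by decide)
      have c := hH !![1, 1, 1, 1; 1, 0, 1, 0; 1, 0, 1, 1; 0, 1, 1, 0]
        !![1, 1, 1, 1; 1, 0, 1, 0; 1, 0, 1, 1; 0, 1, 1, 0] (by decide) (by decide) (by decide)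
      convert hmul (hmul a s) (hmul (hmul b s) c) using 1
      decide +kernel
    · have s : MIn !![1, 1, 0, 1; 0, 1, 0, 0; 0, 0, 1, 1; 0, 0, 0, 1] :=
        ⟨s, hs, hext _ _ (by simp [hTe, s0]) (by simp [hTe, s1]) (by simp [hTe, s2])
          (by simp [hTe, s3])⟩
      have a := hH !![1, 1, 0, 0; 0, 1, 0, 0; 0, 0, 1, 1; 0, 0, 0, 1]
        !![1, 1, 0, 0; 0, 1, 0, 0; 0, 0, 1, 1; 0, 0, 0, 1] (by decide) (by decide) (by decide)
      convert hmul s a using 1
      decide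
  obtain ⟨t, ht, ht'⟩ := hfin
  refine ⟨t, ht, ?_⟩
  have := hext (LinearMap.id + (e.coord 3).smulRight (e 0))
    !![1, 0, 0, 1; 0, 1, 0, 0; 0, 0, 1, 0; 0, 0, 0, 1] (by simp [hTe]) (by simp [hTe])
    (by simp [hTe]) (by simp [hTe, add_comm])
  rw [← ht'] at this
  exact fun x => (DFunLike.congr_fun this x).symm

theorem exists_tv_two [Finite K] (h : SLExt K X) (hF : ∀ c : F, c ≠ 0 → c = 1)
    (hr : finrank F K = 2) (hd : finrank K V = 2) {y : V} (hy : y ≠ 0)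
    {g : V ≃ₗ[F] V} (hg : g ∈ X) (hgy : g y = y) {β : K} (hβ : g (β • y) ∉ Submodule.span K {y}) :
    ∃ φ₀ : Dual F V, φ₀ ≠ 0 ∧ (∀ k : K, φ₀ (k • y) = 0) ∧ HasTv X y φ₀ := by
  have hβ1 : β ∉ Submodule.span F {(1 : K)} := fun h1 => by
    obtain ⟨c, rfl⟩ := Submodule.mem_span_singleton.1 h1
    apply hβ
    rw [smul_one_smul, map_smul, hgy]
    exact Submodule.smul_of_tower_mem _ _ (Submodule.mem_span_singleton_self _)
  obtain ⟨p, q, hpq, -⟩ := exists_coord_two hr hβ1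
  have h2 : (2 : F) = 0 := by
    by_contra h4
    exact one_ne_zero (by linear_combination hF 2 h4 : (1 : F) = 0)
  have h2K : (2 : K) = 0 := by rw [← map_ofNat (algebraMap F K) 2, h2, map_zero]
  have hK4 : ∀ k : K, k = 0 ∨ k = 1 ∨ k = β ∨ k = β + 1 := by
    intro k
    have h1 := hpq k
    by_cases hp : p k = 0 <;> by_cases hq : q k = 0
    · left; rw [h1, hp, hq]; simp
    · right; right; left; rw [h1, hp, hF _ hq]; simp
    · right; left; rw [h1, hF _ hp, hq]; simp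
    · right; right; right; rw [h1, hF _ hp, hF _ hq]; simp [add_comm]
  have hβ0 : β ≠ 0 := by rintro rfl; exact hβ1 (Submodule.zero_mem _)
  have hβ1' : β ≠ 1 := by rintro rfl; exact hβ1 (Submodule.mem_span_singleton_self _)
  have hββ : β * β = β + 1 := by
    rcases hK4 (β * β) with h1 | h1 | h1 | h1
    · exact absurd (mul_self_eq_zero.1 h1) hβ0
    · have h3 : (β - 1) * (β - 1) = 0 := by linear_combination h1 + (1 - β) * h2K
      exact absurd (sub_eq_zero.1 (mul_self_eq_zero.1 h3)) hβ1'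
    · exact absurd (mul_right_cancel₀ hβ0 (h1.trans (one_mul β).symm)) hβ1'
    · exact h1
  have hgy' : g⁻¹ y = y := by apply g.injective; rw [apply_inv_apply, hgy]
  set z := g (β • y) with hz
  have hz0 : z ≠ 0 := by rintro h1; exact hβ (h1 ▸ Submodule.zero_mem _)
  have hind1 : ∀ a b : F, a • (1 : K) + b • β = 0 → a = 0 ∧ b = 0 := by
    intro a b hab
    have hb : b = 0 := by
      by_contra hb
      rw [hF b hb, one_smul] at hab
      exact hβ1 (Submodule.mem_span_singleton.2 ⟨-a, by rw [neg_smul]; linear_combination -hab⟩)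
    rw [hb, zero_smul, add_zero, smul_eq_zero] at hab
    exact ⟨hab.resolve_right one_ne_zero, hb⟩
  have hind2 : ∀ a b : K, a • y + b • z = 0 → a = 0 ∧ b = 0 := by
    intro a b hab
    have hb : b = 0 := by
      by_contra hb
      refine hβ (Submodule.mem_span_singleton.2 ⟨-(b⁻¹ * a), ?_⟩)
      have : z = b⁻¹ • (b • z) := by rw [smul_smul, inv_mul_cancel₀ hb, one_smul]
      rw [this, eq_neg_of_add_eq_zero_right hab]
      module
    rw [hb, zero_smul, add_zero, smul_eq_zero] at hab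
    exact ⟨hab.resolve_right hy, hb⟩
  have hli : LinearIndependent F ![y, β • y, z, β • z] := by
    rw [Fintype.linearIndependent_iff]
    intro c hc
    simp only [Fin.sum_univ_four, cons_val_zero, cons_val_one, cons_val] at hc
    obtain ⟨h3, h4⟩ := hind2 (c 0 • (1 : K) + c 1 • β) (c 2 • (1 : K) + c 3 • β) (by
      simp only [add_smul, smul_assoc, one_smul]
      rw [← hc]; abel)
    obtain ⟨h5, h6⟩ := hind1 _ _ h3
    obtain ⟨h7, h8⟩ := hind1 _ _ h4
    intro i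
    fin_cases i <;> assumption
  obtain ⟨e, he0, he1, he2, he3⟩ : ∃ e : Basis (Fin 4) F V, e 0 = y ∧ e 1 = β • y ∧ e 2 = z ∧
      e 3 = β • z := ⟨basisOfLinearIndependentOfCardEqFinrank hli (by
        rw [← finrank_mul_finrank_ext F K V, hr, hd]; simp), by simp, by simp, by simp, by simp⟩
  have hs : ∀ ψ : Dual K V, ψ y = 0 → ∃ s ∈ X, s (e 0) = e 0 ∧ s (e 2) = e 2 ∧
      ∀ v, s v = v + g (ψ (g⁻¹ v) • y) := by
    intro ψ hψ
    obtain ⟨t, ht, ht'⟩ := h.tv ψ y hψ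
    have h7 : ∀ v, (g * t * g⁻¹) v = v + g (ψ (g⁻¹ v) • y) := fun v => by
      rw [LinearEquiv.mul_apply, LinearEquiv.mul_apply, ht', map_add, apply_inv_apply]
    refine ⟨g * t * g⁻¹, X.mul_mem (X.mul_mem hg ht) (X.inv_mem hg), ?_, ?_, h7⟩
    · rw [h7, he0, hgy', hψ]; simp
    · rw [h7, he2, hz, inv_apply_apply]; simp [hψ]
  obtain ⟨ψ, hψ1, hψ0⟩ := exists_dual_one_zero (F := K) (u := g⁻¹ (e 1)) (v := y) (fun h3 => by
    obtain ⟨k, hk⟩ := Submodule.mem_span_singleton.1 h3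
    have h4 := congr_arg g hk
    rw [apply_inv_apply, hpq k, add_smul, smul_assoc, smul_assoc, one_smul, map_add, map_smul,
      map_smul, hgy, ← hz, ← he2, ← he0] at h4
    have := congr_arg (e.coord 1) h4
    simp at this)
  have hgβ1 : g ((β + 1) • y) = z + y := by rw [add_smul, one_smul, map_add, hgy]
  obtain ⟨s, hsX, s0, s2, s13⟩ : ∃ s ∈ X, s (e 0) = e 0 ∧ s (e 2) = e 2 ∧
      (s (e 1) = e 0 + e 1 ∧ s (e 3) = e 3 ∨ s (e 1) = e 0 + e 1 ∧ s (e 3) = e 0 + e 3 ∨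
      s (e 1) = e 1 + e 2 ∧ s (e 3) = e 0 + e 2 + e 3 ∨
      s (e 1) = e 0 + e 1 ∧ s (e 3) = e 0 + e 2 + e 3) := by
    obtain ⟨s, hsX, s0, s2, hs1⟩ := hs ψ hψ0
    have s1 : s (e 1) = e 0 + e 1 := by rw [hs1, hψ1, one_smul, hgy, he0, add_comm]
    rcases hK4 (ψ (g⁻¹ (e 3))) with h3 | h3 | h3 | h3
    · exact ⟨s, hsX, s0, s2, Or.inl ⟨s1, by rw [hs1, h3]; simp⟩⟩
    · exact ⟨s, hsX, s0, s2, Or.inr (Or.inl ⟨s1, by rw [hs1, h3, one_smul, hgy, he0, add_comm]⟩)⟩
    · obtain ⟨s, hsX, s0, s2, hs1⟩ := hs (β • ψ) (by simp [hψ0])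
      refine ⟨s, hsX, s0, s2, Or.inr (Or.inr (Or.inl ⟨?_, ?_⟩))⟩
      · rw [hs1, LinearMap.smul_apply, hψ1, smul_eq_mul, mul_one, he2]
      · rw [hs1, LinearMap.smul_apply, h3, smul_eq_mul, hββ, hgβ1, he0, he2]; abel
    · refine ⟨s, hsX, s0, s2, Or.inr (Or.inr (Or.inr ⟨s1, ?_⟩))⟩
      rw [hs1, h3, hgβ1, he0, he2]; abel
  have hfin := h.tv_of_basis_four hF e (β := β) (fun k => ⟨_, _, hpq k⟩) (by rw [he0, he1])
    (by rw [he0, he1, smul_smul, hββ, add_smul, one_smul, add_comm]) (by rw [he2, he3])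
    (by rw [he2, he3, smul_smul, hββ, add_smul, one_smul, add_comm]) hsX s0 s2 s13
  refine ⟨e.coord 3, fun h3 => by simpa using DFunLike.congr_fun h3 (e 3), fun k => ?_,
    he0 ▸ hfin⟩
  rw [hpq k, add_smul, smul_assoc, smul_assoc, one_smul, ← he1, ← he0]
  simp

theorem SLV_le [Finite K] (h : SLExt K X) (hr : (finrank F K).Prime) {g : V ≃ₗ[F] V}
    (hg : g ∈ X) (hgs : ¬ SemiK K g) : SLV F V ≤ X := by
  obtain ⟨u, hu⟩ := exists_not_mem_line h.hd (0 : V)
  have hu0 : u ≠ 0 := by rintro rfl; exact hu (Submodule.zero_mem _)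
  refine h.SLV_le_of_lineTv hu0 ?_
  have h1 := exists_fix_not_line h.hd h.trans hg hgs hu0
  by_cases h2 : finrank F K = 2 → ∃ c : F, c ≠ 0 ∧ c ≠ 1
  · obtain ⟨p, hp, α, hα, hns⟩ := exists_not_semi hr h2 hu0 (h.flex u) h1
    exact h.lineTv_of_not_semi hr hu0 hp hα hns
  · push Not at h2
    obtain ⟨g', hg', h3, β, hβ⟩ := h1
    obtain ⟨φ₀, h4, h5, h6⟩ : ∃ φ₀ : Dual F V, φ₀ ≠ 0 ∧ (∀ k : K, φ₀ (k • u) = 0) ∧
        HasTv X u φ₀ := by
      by_cases hd : finrank K V = 2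
      · exact h.exists_tv_two h2.2 h2.1 hd hu0 hg' h3 hβ
      · exact h.exists_tv_three h2.1 (by have := h.hd; omega) hg' h3 hβ
    exact h.lineTv_of_one h2.2 h4 h5 h6

end SLExt

/-- A transvection moving `β u` off the line `K u` and fixing `u`. -/
theorem exists_SLV_not_semiK [FiniteDimensional F V] (hr : 2 ≤ finrank F K)
    (hd : 2 ≤ finrank K V) : ∃ g ∈ SLV F V, ¬ SemiK K g := by
  obtain ⟨β, hβ⟩ := exists_not_mem_range hr
  obtain ⟨u, hu⟩ := exists_not_mem_line hd (0 : V)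
  have hu0 : u ≠ 0 := by rintro rfl; exact hu (Submodule.zero_mem _)
  obtain ⟨z, hz⟩ := exists_not_mem_line hd u
  obtain ⟨φ, h1, h2⟩ := exists_dual_one (W := Submodule.span F {u, z}) (u := β • u) (fun h1 => by
    obtain ⟨a, b, hab⟩ := Submodule.mem_span_pair.1 h1
    by_cases hb : b = 0
    · refine hβ (Submodule.mem_span_singleton.2 ⟨a, smul_left_injective K hu0 ?_⟩)
      simpa [hb] using hab
    · apply hz
      have : z = b⁻¹ • (β • u - a • u) := by
        rw [← hab, add_sub_cancel_left, smul_smul, inv_mul_cancel₀ hb, one_smul]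
      rw [this]
      exact Submodule.smul_of_tower_mem _ _ (Submodule.sub_mem _
        (Submodule.smul_mem _ _ (Submodule.mem_span_singleton_self _))
        (Submodule.smul_of_tower_mem _ _ (Submodule.mem_span_singleton_self _))))
  obtain ⟨g, hg, hg'⟩ := hasTv_SLV (h2 z (Submodule.subset_span (by simp)))
  refine ⟨g, hg, fun hs => hz ?_⟩
  obtain ⟨k, hk⟩ := hs β
  have h3 := hk u
  rw [hg', hg', h1, h2 u (Submodule.subset_span (by simp))] at h3
  refine Submodule.mem_span_singleton.2 ⟨k - β, ?_⟩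
  rw [sub_smul]
  simpa [sub_eq_iff_eq_add'] using h3.symm

theorem exists_semiK_det [Finite K] [FiniteDimensional K V] (hd : 2 ≤ finrank K V) {c : F}
    (hc : c ≠ 0) : ∃ g : V ≃ₗ[F] V, SemiK K g ∧ LinearMap.det (g : V →ₗ[F] V) = c := by
  obtain ⟨u, hu⟩ := exists_not_mem_line hd (0 : V)
  have hu0 : u ≠ 0 := by rintro rfl; exact hu (Submodule.zero_mem _)
  obtain ⟨θ, hθ⟩ := exists_dual_one_of_ne (F := K) hu0
  obtain ⟨d, hd⟩ := FiniteField.norm_surjective F K c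
  have hd0 : d ≠ 0 := by rintro rfl; exact hc (by simpa using hd.symm)
  obtain ⟨g, h1, -, h2⟩ := exists_dil (F := F) ((d - 1) • θ) u (by simpa [hθ])
  exact ⟨g, h1, by simpa [hθ, hd] using h2⟩

/-- `ΓL_{n/r}(q^r)` is maximal in `GL_n(q)`, and its intersection with `SL_n(q)` is maximal
there. -/
theorem subalgebraNormalizer_maximal {F : Type u} [Field F] [Fintype F] {ι : Type} [Fintype ι]
    [DecidableEq ι] (r : ℕ) (hr : r.Prime) (hlt : r < Fintype.card ι)
    (K₀ : Subalgebra F (Matrix ι ι F)) (hK : Cfsg.Geo.IsFieldSubalgebra r K₀) :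
    IsCoatom (Cfsg.Geo.subalgebraNormalizer K₀) ∧
      Cfsg.Geo.IsMaximalIn (Cfsg.Geo.specialLinear ι F)
        (Cfsg.Geo.subalgebraNormalizer K₀ ⊓ Cfsg.Geo.specialLinear ι F) := by
  have : Nonempty ι := Fintype.card_pos_iff.1 (by omega)
  refine with_ext_field hK fun K _ _ _ _ _ hrK hdim _ _ hN => ?_
  have hfd' : FiniteDimensional K (ι → F) := Module.Finite.of_finite
  have hd : 2 ≤ finrank K (ι → F) := by
    by_contra h1
    have h2 : finrank K (ι → F) = 0 ∨ finrank K (ι → F) = 1 := by omega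
    rcases h2 with h2 | h2 <;> rw [h2] at hdim <;> omega
  have hN' : ∀ g, g ∈ Cfsg.Geo.subalgebraNormalizer K₀ ↔ SemiK K (toEquiv g) :=
    fun g => hN g _ (toEquiv_apply g)
  have hS : ∀ g : GL ι F, g ∈ Cfsg.Geo.specialLinear ι F ↔ toEquiv g ∈ SLV F (ι → F) :=
    fun g => by rw [specialLinear_eq]; rfl
  have key : ∀ X : Subgroup (GL ι F),
      Cfsg.Geo.subalgebraNormalizer K₀ ⊓ Cfsg.Geo.specialLinear ι F ≤ X → ∀ g ∈ X,
      g ∉ Cfsg.Geo.subalgebraNormalizer K₀ → Cfsg.Geo.specialLinear ι F ≤ X := by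
    intro X hX g hg hgN
    have h1 : SLExt K (X.map (toEquiv (ι := ι) (F := F)).toMonoidHom) := ⟨fun e he hs => by
      refine ⟨toEquiv.symm e, hX ⟨(hN' _).2 ?_, (hS _).2 ?_⟩, by simp⟩ <;> simpa, hd⟩
    have h2 := h1.SLV_le (hrK ▸ hr) (g := toEquiv g) ⟨g, hg, rfl⟩ (fun h => hgN ((hN' g).2 h))
    intro a ha
    obtain ⟨b, hb, hb'⟩ := h2 ((hS a).1 ha)
    exact toEquiv.injective hb' ▸ hb
  obtain ⟨e, he, he'⟩ := exists_SLV_not_semiK (F := F) (K := K) (hrK ▸ hr.two_le) hd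
  have he1 : toEquiv.symm e ∉ Cfsg.Geo.subalgebraNormalizer K₀ := by rw [hN']; simpa
  refine ⟨⟨fun h => he1 (h ▸ Subgroup.mem_top _), fun X hX => ?_⟩,
    isMaximalIn_of inf_le_right ⟨toEquiv.symm e, (hS _).2 (by simpa), fun h => he1 h.1⟩
      fun X h1 h2 g hg hg' => key X h1 g hg fun h => hg' ⟨h, h2 hg⟩⟩
  obtain ⟨g, hg, hg'⟩ := SetLike.exists_of_lt hX
  have h1 := key X (inf_le_left.trans hX.le) g hg hg'
  rw [eq_top_iff]
  intro a _
  obtain ⟨d, hd1, hd2⟩ := exists_semiK_det (F := F) (K := K) hd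
    (c := (a : Matrix ι ι F).det) (Matrix.GeneralLinearGroup.det_ne_zero a)
  have h2 : toEquiv.symm d ∈ X := hX.le ((hN' _).2 (by simpa))
  have h3 : ((toEquiv.symm d : GL ι F) : Matrix ι ι F).det = (a : Matrix ι ι F).det := by
    rw [← det_toEquiv]; simpa using hd2
  have h4 : a * (toEquiv.symm d)⁻¹ ∈ X := h1 (by
    rw [mem_specialLinear, Units.val_mul, det_mul, ← h3, ← det_mul, ← Units.val_mul]
    simp)
  simpa using X.mul_mem h4 h2

end CfsgLib.ClMax
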