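import Mathlib
import Cfsg.Agent.Lib.Forms.SpGen
import Cfsg.Prelude.Def_GeometricClasses

/-!
Calculus of symplectic transvections and Heisenberg elements inside a subgroup `M` of the isometry
group of an alternating form; criteria for `M` to be the whole symplectic group; bridge to
`Cfsg.Geo.IsMaximalIn (Cfsg.spGL m F)`.
-/

set_option autoImplicit false

namespace CfsgLib.ClMax

open CfsgLib.Forms Matrix

universe u v

variable {F : Type u} [Field F] {V : Type v} [AddCommGroup V] [Module F V]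

/-- The isometry group of a bilinear form. -/
def spIso (B : LinearMap.BilinForm F V) : Subgroup (V ≃ₗ[F] V) where
  carrier := {g | ∀ u v, B (g u) (g v) = B u v}
  mul_mem' {a b} ha hb u v := by
    rw [LinearEquiv.mul_apply, LinearEquiv.mul_apply, ha, hb]
  one_mem' _ _ := rfl
  inv_mem' {a} ha u v := by
    rw [← ha]; simp [LinearEquiv.coe_inv]

theorem mem_spIso {B : LinearMap.BilinForm F V} {g : V ≃ₗ[F] V} :
    g ∈ spIso B ↔ ∀ u v, B (g u) (g v) = B u v := Iff.rfl

theorem spIso_symm_left {B : LinearMap.BilinForm F V} {g : V ≃ₗ[F] V} (hg : g ∈ spIso B)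
    (u v : V) : B u (g.symm v) = B (g u) v := by
  rw [← hg]; simp

/-- `M` contains the map `v ↦ v + (B b v + d B a v) a + B a v b`. -/
def HIn (B : LinearMap.BilinForm F V) (M : Subgroup (V ≃ₗ[F] V)) (a b : V) (d : F) : Prop :=
  ∃ g ∈ M, ∀ v, g v = v + (B b v + d * B a v) • a + B a v • b

/-- `M` contains the transvection `v ↦ v + d B x v x`. -/
def TvIn (B : LinearMap.BilinForm F V) (M : Subgroup (V ≃ₗ[F] V)) (x : V) (d : F) : Prop :=
  ∃ g ∈ M, ∀ v, g v = v + (d * B x v) • x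

/-- `M` contains all transvections with centre `x`. -/
def Full (B : LinearMap.BilinForm F V) (M : Subgroup (V ≃ₗ[F] V)) (x : V) : Prop :=
  ∀ d, TvIn B M x d

variable {B : LinearMap.BilinForm F V} {M : Subgroup (V ≃ₗ[F] V)}

theorem tvIn_iff {x : V} {d : F} : TvIn B M x d ↔ HIn B M x 0 d := by
  simp [TvIn, HIn]

/-- The Heisenberg element as a linear map. -/
def heisL (B : LinearMap.BilinForm F V) (a b : V) (d : F) : V →ₗ[F] V :=
  LinearMap.id + (B b + d • B a).smulRight a + (B a).smulRight b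

theorem heisL_apply (a b : V) (d : F) (v : V) :
    heisL B a b d v = v + (B b v + d * B a v) • a + B a v • b := by
  simp [heisL]

theorem heisL_heisL (hA : B.IsAlt) {a b : V} (hab : B a b = 0) (d : F) (v : V) :
    heisL B a b d (heisL B a (-b) (-d) v) = v := by
  have hba : B b a = 0 := by rw [← hA.neg_eq, hab, neg_zero]
  simp only [heisL_apply, map_add, map_smul, map_neg, LinearMap.neg_apply,
    hA.self_eq_zero, hab, hba]
  module

/-- The Heisenberg element `v ↦ v + (B b v + d B a v) a + B a v b` for `a ⊥ b`. -/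
def heis (hA : B.IsAlt) (a b : V) (hab : B a b = 0) (d : F) : V ≃ₗ[F] V :=
  LinearEquiv.ofLinearMap (heisL B a b d) (heisL B a (-b) (-d))
    (LinearMap.ext fun v => heisL_heisL hA hab d v)
    (LinearMap.ext fun v => by
      have := heisL_heisL hA (a := a) (b := -b) (by simp [hab]) (-d) v
      simpa using this)

theorem heis_apply (hA : B.IsAlt) (a b : V) (hab : B a b = 0) (d : F) (v : V) :
    heis hA a b hab d v = v + (B b v + d * B a v) • a + B a v • b := heisL_apply a b d v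

theorem heis_mem (hA : B.IsAlt) (a b : V) (hab : B a b = 0) (d : F) :
    heis hA a b hab d ∈ spIso B := by
  intro u v
  have hba : B b a = 0 := by rw [← hA.neg_eq, hab, neg_zero]
  simp only [heis_apply, map_add, map_smul, LinearMap.add_apply, LinearMap.smul_apply,
    smul_eq_mul, hA.self_eq_zero, hab, hba, ← hA.neg_eq a u, ← hA.neg_eq b u]
  ring

/-- The transvection `v ↦ v + d B x v x`. -/
def tv (hA : B.IsAlt) (x : V) (d : F) : V ≃ₗ[F] V := heis hA x 0 (by simp) d

theorem tv_apply (hA : B.IsAlt) (x : V) (d : F) (v : V) : tv hA x d v = v + (d * B x v) • x := by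
  simp [tv, heis_apply]

theorem tv_mem (hA : B.IsAlt) (x : V) (d : F) : tv hA x d ∈ spIso B := heis_mem hA _ _ _ _

theorem hIn_of_mem (hA : B.IsAlt) {a b : V} (hab : B a b = 0) {d : F} (h : heis hA a b hab d ∈ M) :
    HIn B M a b d := ⟨_, h, heis_apply hA a b hab d⟩

theorem tvIn_of_mem (hA : B.IsAlt) {x : V} {d : F} (h : tv hA x d ∈ M) : TvIn B M x d :=
  ⟨_, h, tv_apply hA x d⟩

theorem HIn.congr {a b a' b' : V} {d d' : F} (h : HIn B M a b d) (ha : a = a') (hb : b = b')
    (hd : d = d') : HIn B M a' b' d' := by subst ha hb hd; exact h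

theorem TvIn.congr {a a' : V} {d d' : F} (h : TvIn B M a d) (ha : a = a')
    (hd : d = d') : TvIn B M a' d' := by subst ha hd; exact h

theorem HIn.mul (hA : B.IsAlt) {a b b' : V} {d d' : F} (hab : B a b = 0) (hab' : B a b' = 0)
    (h : HIn B M a b d) (h' : HIn B M a b' d') : HIn B M a (b + b') (d + d' + B b b') := by
  obtain ⟨g, hg, e⟩ := h
  obtain ⟨g', hg', e'⟩ := h'
  have hba : B b a = 0 := by rw [← hA.neg_eq, hab, neg_zero]
  refine ⟨g * g', M.mul_mem hg hg', fun v => ?_⟩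
  rw [LinearEquiv.mul_apply, e, e']
  simp only [map_add, map_smul, LinearMap.add_apply, smul_eq_mul, hA.self_eq_zero, hab', hba]
  module

theorem HIn.neg (hA : B.IsAlt) {a b : V} {d : F} (hab : B a b = 0) (h : HIn B M a b d) :
    HIn B M a (-b) (-d) := by
  obtain ⟨g, hg, e⟩ := h
  refine ⟨g⁻¹, M.inv_mem hg, fun v => ?_⟩
  rw [LinearEquiv.coe_inv, LinearEquiv.symm_apply_eq, e, ← heisL_apply, ← heisL_apply,
    heisL_heisL hA hab]

theorem HIn.div (hA : B.IsAlt) {a b b' : V} {d d' : F} (hab : B a b = 0) (hab' : B a b' = 0)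
    (h : HIn B M a b d) (h' : HIn B M a b' d') : HIn B M a (b - b') (d - d' - B b b') :=
  (h.mul hA hab (by simp [hab']) (h'.neg hA hab')).congr rfl (sub_eq_add_neg _ _).symm
    (by simp; ring)

theorem HIn.conj (hM : M ≤ spIso B) {a b : V} {d : F} (h : HIn B M a b d) {k : V ≃ₗ[F] V}
    (hk : k ∈ M) : HIn B M (k a) (k b) d := by
  obtain ⟨g, hg, e⟩ := h
  refine ⟨k * g * k⁻¹, M.mul_mem (M.mul_mem hk hg) (M.inv_mem hk), fun v => ?_⟩
  rw [LinearEquiv.mul_apply, LinearEquiv.mul_apply, e, LinearEquiv.coe_inv,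
    spIso_symm_left (hM hk), spIso_symm_left (hM hk)]
  simp

theorem HIn.symm {a b : V} (h : HIn B M a b 0) : HIn B M b a 0 := by
  obtain ⟨g, hg, e⟩ := h
  refine ⟨g, hg, fun v => ?_⟩
  rw [e]; module

theorem hIn_smul_left {a b : V} {c d : F} :
    HIn B M (c • a) b d ↔ HIn B M a (c • b) (c ^ 2 * d) := by
  unfold HIn
  refine exists_congr fun g => and_congr_right fun _ => forall_congr' fun v => ?_
  refine Eq.congr_right ?_
  simp only [map_smul, LinearMap.smul_apply, smul_eq_mul]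
  module

theorem hIn_shift {a b : V} {c d : F} :
    HIn B M a (b + c • a) d ↔ HIn B M a b (d + 2 * c) := by
  unfold HIn
  refine exists_congr fun g => and_congr_right fun _ => forall_congr' fun v => ?_
  refine Eq.congr_right ?_
  simp only [map_add, map_smul, LinearMap.add_apply, LinearMap.smul_apply, smul_eq_mul]
  module

theorem tvIn_zero (x : V) : TvIn B M x 0 := ⟨1, M.one_mem, by simp⟩

theorem tvIn_zero' (d : F) : TvIn B M 0 d := ⟨1, M.one_mem, by simp⟩

theorem TvIn.add (hA : B.IsAlt) {x : V} {d e : F} (h : TvIn B M x d) (h' : TvIn B M x e) :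
    TvIn B M x (d + e) := by
  rw [tvIn_iff] at *
  exact (h.mul hA (by simp) (by simp) h').congr rfl (by simp) (by simp)

theorem TvIn.neg (hA : B.IsAlt) {x : V} {d : F} (h : TvIn B M x d) : TvIn B M x (-d) := by
  rw [tvIn_iff] at *
  exact (h.neg hA (by simp)).congr rfl (by simp) rfl

theorem TvIn.sub (hA : B.IsAlt) {x : V} {d e : F} (h : TvIn B M x d) (h' : TvIn B M x e) :
    TvIn B M x (d - e) := (h.add hA (h'.neg hA)).congr rfl (sub_eq_add_neg _ _).symm

theorem TvIn.conj (hM : M ≤ spIso B) {x : V} {d : F} (h : TvIn B M x d) {k : V ≃ₗ[F] V}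
    (hk : k ∈ M) : TvIn B M (k x) d := by
  rw [tvIn_iff] at *
  exact (h.conj hM hk).congr rfl (by simp) rfl

theorem tvIn_smul {x : V} {c d : F} : TvIn B M (c • x) d ↔ TvIn B M x (c ^ 2 * d) := by
  rw [tvIn_iff, tvIn_iff, hIn_smul_left, smul_zero]

/-- For `a ⊥ b`: `t(a+b,d) = h(a, d b, d) t(b,d)`. -/
theorem TvIn.hIn_of_add (hA : B.IsAlt) {a b : V} {d : F} (hab : B a b = 0)
    (h : TvIn B M (a + b) d) (hb : TvIn B M b d) : HIn B M a (d • b) d := by
  obtain ⟨g, hg, e⟩ := h
  obtain ⟨g', hg', e'⟩ := hb.neg hA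
  refine ⟨g * g', M.mul_mem hg hg', fun v => ?_⟩
  rw [LinearEquiv.mul_apply, e, e']
  simp only [map_add, map_smul, LinearMap.add_apply, LinearMap.smul_apply, smul_eq_mul,
    hA.self_eq_zero, hab]
  module

theorem HIn.tvIn_add (hA : B.IsAlt) {a b : V} {d : F} (hab : B a b = 0)
    (h : HIn B M a (d • b) d) (hb : TvIn B M b d) : TvIn B M (a + b) d := by
  obtain ⟨g, hg, e⟩ := h
  obtain ⟨g', hg', e'⟩ := hb
  refine ⟨g * g', M.mul_mem hg hg', fun v => ?_⟩
  rw [LinearEquiv.mul_apply, e, e']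
  simp only [map_add, map_smul, LinearMap.add_apply, LinearMap.smul_apply, smul_eq_mul,
    hA.self_eq_zero, hab]
  module

/-- Two Heisenberg elements differing by the sign of `b` give a transvection. -/
theorem HIn.tvIn_comm (hA : B.IsAlt) {a b b' : V} {d d' : F} (hab : B a b = 0) (hab' : B a b' = 0)
    (h : HIn B M a b d) (h' : HIn B M a b' d') : TvIn B M a (2 * B b b') := by
  have h1 := h.mul hA hab hab' h'
  have h2 := h'.mul hA hab' hab h
  rw [tvIn_iff]
  refine (h1.div hA (by simp [hab, hab']) (by simp [hab, hab']) h2).congr rfl (by abel) ?_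
  simp only [map_add, LinearMap.add_apply, hA.self_eq_zero, ← hA.neg_eq b b']
  ring

theorem full_zero : Full B M 0 := tvIn_zero'

theorem Full.smul {x : V} (h : Full B M x) (c : F) : Full B M (c • x) := fun _ =>
  tvIn_smul.2 (h _)

theorem Full.neg {x : V} (h : Full B M x) : Full B M (-x) := by
  simpa using h.smul (-1)

theorem Full.of_smul {x : V} {c : F} (hc : c ≠ 0) (h : Full B M (c • x)) : Full B M x := by
  simpa [smul_smul, inv_mul_cancel₀ hc] using h.smul c⁻¹

theorem Full.conj (hM : M ≤ spIso B) {x : V} (h : Full B M x) {k : V ≃ₗ[F] V} (hk : k ∈ M) :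
    Full B M (k x) := fun d => (h d).conj hM hk

theorem Full.add (hM : M ≤ spIso B) {x y : V} (hx : Full B M x) (hy : Full B M y)
    (hxy : B x y ≠ 0) : Full B M (x + y) := by
  obtain ⟨g, hg, e⟩ := hx (B x y)⁻¹
  have := hy.conj hM hg
  rwa [e, inv_mul_cancel₀ hxy, one_smul, add_comm] at this

theorem Full.add_smul (hM : M ≤ spIso B) {x y : V} (hx : Full B M x) (hy : Full B M y)
    (hxy : B x y ≠ 0) (a b : F) : Full B M (a • x + b • y) := by
  by_cases ha : a = 0
  · simpa [ha] using hy.smul b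
  by_cases hb : b = 0
  · simpa [hb] using hx.smul a
  exact (hx.smul a).add hM (hy.smul b) (by simp [ha, hb, hxy])

/-- In a finite field the additive closure of the squares times `d` is everything. -/
theorem full_of_sq [Finite F] (hA : B.IsAlt) {x : V} {d : F} (hd : d ≠ 0)
    (h : ∀ c : F, TvIn B M x (c ^ 2 * d)) : Full B M x := by
  intro e
  by_cases h2 : (2 : F) = 0
  · have : CharP F 2 := CharTwo.of_one_ne_zero_of_two_eq_zero one_ne_zero h2
    obtain ⟨c, hc⟩ := FiniteField.isSquare_of_char_two (ringChar.eq F 2) (e / d)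
    exact (h c).congr rfl (by rw [sq, ← hc]; field_simp)
  · exact ((h ((e / d + 1) / 2)).sub hA (h ((e / d - 1) / 2))).congr rfl (by field_simp; ring)

section fd

variable [FiniteDimensional F V]

theorem exists_dual (hA : B.IsAlt) (hB : B.Nondegenerate) (H : Submodule F V) {u : V}
    (hu : u ∉ H) : ∃ a, B a u = 1 ∧ ∀ h ∈ H, B a h = 0 :=
  (ofAlt B hA).exists_dual_vec (ofAlt_nondeg B hA hB) H hu

theorem exists_isom_move (hA : B.IsAlt) (hB : B.Nondegenerate) (H : Submodule F V) {u u' : V}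
    (hu : u ∉ H) (hu' : u' ∉ H) (h : ∀ h ∈ H, B h u' = B h u) :
    ∃ g ∈ spIso B, (∀ h ∈ H, g h = h) ∧ g u = u' := by
  obtain ⟨g, hg, h⟩ := (ofAlt B hA).witt_step (ofAlt_nondeg B hA hB) H hu hu' h trivial
  exact ⟨g, hg.B_eq, h⟩

theorem spIso_le_of_full (hA : B.IsAlt) (hB : B.Nondegenerate) (hM : M ≤ spIso B)
    (h : ∀ x, Full B M x) : spIso B ≤ M := by
  intro g hg
  refine alt_mem_of_transvections B hA hB M (fun g hg => (ofAlt_isIso B hA g).2 (hM hg)) ?_ g
    ((ofAlt_isIso B hA g).2 hg)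
  intro g x d e
  obtain ⟨g', hg', e'⟩ := h x d
  rwa [show g = g' from LinearEquiv.ext fun v => by rw [e, e']]

/-- Dimension count: a vector of `U` outside `W` orthogonal to `k` given vectors. -/
theorem exists_orth_not_mem (B : LinearMap.BilinForm F V) {k : ℕ} (U W : Submodule F V)
    (y : Fin k → V) (h : Module.finrank F W + k < Module.finrank F U) :
    ∃ u ∈ U, (∀ i, B (y i) u = 0) ∧ u ∉ W := by
  by_contra hh
  push Not at hh
  let φ : U →ₗ[F] (Fin k → F) := (LinearMap.pi fun i => B (y i)).domRestrict U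
  have h1 := φ.finrank_range_add_finrank_ker
  have h2 : Module.finrank F (LinearMap.range φ) ≤ k := by
    simpa using (LinearMap.range φ).finrank_le
  have h3 : (LinearMap.ker φ).map U.subtype ≤ W := by
    rintro _ ⟨u, hu, rfl⟩
    exact hh u u.2 fun i => congrFun (LinearMap.mem_ker.1 hu) i
  have h4 := Submodule.finrank_mono h3
  rw [Submodule.finrank_map_subtype_eq] at h4
  omega

omit [FiniteDimensional F V] in
theorem finrank_span_singleton_le (y : V) : Module.finrank F (Submodule.span F {y}) ≤ 1 := by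
  simpa using finrank_span_le_card (R := F) ({y} : Set V)

omit [FiniteDimensional F V] in
theorem finrank_span_pair_le (y z : V) : Module.finrank F (Submodule.span F {y, z}) ≤ 2 := by
  classical
  refine (finrank_span_le_card (R := F) ({y, z} : Set V)).trans ?_
  rw [Set.toFinset_insert, Set.toFinset_singleton]
  exact Finset.card_le_two

/-- A hyperbolic pair orthogonal to a given vector, in dimension at least three. -/
theorem exists_pair_orth (hA : B.IsAlt) (hB : B.Nondegenerate) (hdim : 3 ≤ Module.finrank F V)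
    (y : V) : ∃ u v, B y u = 0 ∧ B y v = 0 ∧ B v u = 1 := by
  obtain ⟨u, -, hu, hu'⟩ := exists_orth_not_mem B ⊤ (Submodule.span F {y}) ![y] (by
    have := finrank_span_singleton_le (F := F) y
    rw [finrank_top]; omega)
  obtain ⟨a, ha, ha'⟩ := exists_dual hA hB _ hu'
  refine ⟨u, a, hu 0, ?_, ha⟩
  rw [← hA.neg_eq, ha' y (Submodule.mem_span_singleton_self y), neg_zero]

theorem exists_B_eq_one (hA : B.IsAlt) (hB : B.Nondegenerate) {x : V} (hx : x ≠ 0) :
    ∃ a, B a x = 1 := by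
  obtain ⟨a, ha, -⟩ := exists_dual hA hB ⊥ (u := x) (by simpa using hx)
  exact ⟨a, ha⟩

end fd

theorem exists_ne_zero_two (U : Submodule F V) (φ ψ : V →ₗ[F] F) (hφ : ∃ u ∈ U, φ u ≠ 0)
    (hψ : ∃ u ∈ U, ψ u ≠ 0) : ∃ u ∈ U, φ u ≠ 0 ∧ ψ u ≠ 0 := by
  obtain ⟨a, ha, ha'⟩ := hφ
  obtain ⟨b, hb, hb'⟩ := hψ
  by_cases h1 : ψ a = 0
  · by_cases h2 : φ b = 0
    · exact ⟨a + b, U.add_mem ha hb, by simp [h2, ha'], by simp [h1, hb']⟩
    · exact ⟨b, hb, h2, hb'⟩
  · exact ⟨a, ha, ha', h1⟩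

theorem exists_ne_ne {c : F} (hc0 : c ≠ 0) (hc1 : c ≠ 1) (a b : F) : ∃ t : F, t ≠ a ∧ t ≠ b := by
  by_cases h0 : (0 : F) ≠ a ∧ (0 : F) ≠ b
  · exact ⟨0, h0⟩
  by_cases h1 : (1 : F) ≠ a ∧ (1 : F) ≠ b
  · exact ⟨1, h1⟩
  refine ⟨c, ?_, ?_⟩ <;> rintro rfl <;> simp_all [eq_comm]

theorem exists_ne_zero_three {c : F} (hc0 : c ≠ 0) (hc1 : c ≠ 1) (U : Submodule F V)
    (φ ψ χ : V →ₗ[F] F) (hφ : ∃ u ∈ U, φ u ≠ 0) (hψ : ∃ u ∈ U, ψ u ≠ 0)
    (hχ : ∃ u ∈ U, χ u ≠ 0) : ∃ u ∈ U, φ u ≠ 0 ∧ ψ u ≠ 0 ∧ χ u ≠ 0 := by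
  obtain ⟨a, ha, h1, h2⟩ := exists_ne_zero_two U φ ψ hφ hψ
  obtain ⟨b, hb, h3⟩ := hχ
  by_cases h4 : χ a = 0
  swap
  · exact ⟨a, ha, h1, h2, h4⟩
  obtain ⟨t, ht1, ht2⟩ := exists_ne_ne hc0 hc1 (-φ b / φ a) (-ψ b / ψ a)
  refine ⟨b + t • a, U.add_mem hb (U.smul_mem t ha), ?_, ?_, by simp [h4, h3]⟩
  · intro h; apply ht1; simp at h; field_simp; linear_combination h
  · intro h; apply ht2; simp at h; field_simp; linear_combination h

/-- One step of McLaughlin's theorem for fields with more than two elements. -/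
theorem full_step (hA : B.IsAlt) (hM : M ≤ spIso B) {c : F} (hc0 : c ≠ 0) (hc1 : c ≠ 1)
    (U : Submodule F V) (hU : ∀ u ∈ U, (∃ u' ∈ U, B u' u ≠ 0) → Full B M u) {e f : V}
    (he : e ∈ U) (hf : f ∈ U) (hef : B e f ≠ 0) {z : V} (hz : Full B M z)
    (hzU : ∃ u ∈ U, B z u ≠ 0) (w : V) (hw : w ∈ U ⊔ Submodule.span F {z})
    (hw' : ∃ u' ∈ U ⊔ Submodule.span F {z}, B u' w ≠ 0) : Full B M w := by
  have key : ∀ u ∈ U, (∃ u' ∈ U ⊔ Submodule.span F {z}, B u' (u + z) ≠ 0) → Full B M (u + z) := by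
    intro u hu ⟨u', hu', hne⟩
    by_cases h1 : ∃ u' ∈ U, B (u + z) u' ≠ 0
    · obtain ⟨y, hy, h2, h3, h4⟩ := exists_ne_zero_three hc0 hc1 U (B e) (B z) (B (u + z))
        ⟨f, hf, hef⟩ hzU h1
      obtain ⟨t, ht1, ht2⟩ := exists_ne_ne hc0 hc1 (B e u / B e y) (B z u / B (u + z) y)
      have hyF : Full B M y := hU y hy ⟨e, he, h2⟩
      have ha : Full B M (z + t • y) := by simpa using hz.add_smul hM hyF h3 1 t
      have hb : Full B M (u - t • y) := hU _ (U.sub_mem hu (U.smul_mem t hy)) ⟨e, he, by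
        intro h; apply ht1; simp at h; field_simp; linear_combination -h⟩
      have := ha.add hM hb (by
        intro h; apply ht2
        simp only [map_add, map_sub, map_smul, LinearMap.add_apply, LinearMap.smul_apply,
          smul_eq_mul, hA.self_eq_zero, ← hA.neg_eq u y] at h h4 ⊢
        field_simp; linear_combination -h)
      rwa [show z + t • y + (u - t • y) = u + z by abel] at this
    · push Not at h1
      obtain ⟨y, hy, s, hs, rfl⟩ := Submodule.mem_sup.1 hu'
      obtain ⟨s, rfl⟩ := Submodule.mem_span_singleton.1 hs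
      have h2 : B z u ≠ 0 := by
        intro h; apply hne
        have := h1 y hy
        rw [← hA.neg_eq, neg_eq_zero] at this
        simp only [map_add, map_smul, LinearMap.add_apply, LinearMap.smul_apply, smul_eq_mul,
          hA.self_eq_zero, h] at this ⊢
        linear_combination this
      have h3 := h1 u hu
      rw [map_add, LinearMap.add_apply, hA.self_eq_zero, zero_add] at h3
      exact absurd h3 h2
  obtain ⟨u, hu, s, hs, rfl⟩ := Submodule.mem_sup.1 hw
  obtain ⟨s, rfl⟩ := Submodule.mem_span_singleton.1 hs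
  by_cases hs0 : s = 0
  · subst hs0
    rw [zero_smul, add_zero] at hw' ⊢
    by_cases h1 : ∃ u' ∈ U, B u' u ≠ 0
    · exact hU u hu h1
    push Not at h1
    obtain ⟨u', hu', hne⟩ := hw'
    obtain ⟨y, hy, s, hs, rfl⟩ := Submodule.mem_sup.1 hu'
    obtain ⟨s, rfl⟩ := Submodule.mem_span_singleton.1 hs
    have h2 : B z u ≠ 0 := by
      intro h; apply hne; simp [h1 y hy, h]
    have h3 := key u hu ⟨z, Submodule.mem_sup_right (Submodule.mem_span_singleton_self z), by
      simpa [hA.self_eq_zero] using h2⟩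
    have := h3.add hM hz.neg (by simpa [hA.self_eq_zero, ← hA.neg_eq z u] using h2)
    simpa using this
  · have := key (s⁻¹ • u) (U.smul_mem _ hu) (by
      obtain ⟨u', hu', hne⟩ := hw'
      refine ⟨u', hu', fun h => hne ?_⟩
      have : u + s • z = s • (s⁻¹ • u + z) := by simp [smul_smul, hs0]
      rw [this, map_smul, h, smul_zero])
    have := this.smul s
    rwa [smul_add, smul_smul, mul_inv_cancel₀ hs0, one_smul] at this

/-- McLaughlin's theorem, symplectic case, for fields with more than two elements. -/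
theorem full_of_connected [FiniteDimensional F V] (hA : B.IsAlt) (hB : B.Nondegenerate)
    (hM : M ≤ spIso B) {c : F} (hc0 : c ≠ 0) (hc1 : c ≠ 1) {e f : V} (he : Full B M e)
    (hf : Full B M f) (hef : B e f ≠ 0)
    (h : ∀ U : Submodule F V, e ∈ U → f ∈ U → U ≠ ⊤ → ∃ z, Full B M z ∧ z ∉ U ∧ ∃ u ∈ U, B z u ≠ 0)
    (x : V) : Full B M x := by
  have key : ∀ U : Submodule F V, e ∈ U → f ∈ U →
      (∀ u ∈ U, (∃ u' ∈ U, B u' u ≠ 0) → Full B M u) → Full B M x := by
    intro U
    induction U using WellFoundedGT.induction with | ind U ih => ?_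
    intro heU hfU hU
    by_cases hT : U = ⊤
    · subst hT
      by_cases hx : x = 0
      · subst hx; exact full_zero
      · refine hU x trivial ?_
        by_contra hh
        push Not at hh
        exact hx (hB.2 x fun y => hh y trivial)
    · obtain ⟨z, hz, hzU, hz'⟩ := h U heU hfU hT
      refine ih (U ⊔ Submodule.span F {z}) ?_ (Submodule.mem_sup_left heU)
        (Submodule.mem_sup_left hfU) (full_step hA hM hc0 hc1 U hU heU hfU hef hz hz')
      refine lt_of_le_of_ne le_sup_left fun hh => hzU ?_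
      rw [hh]; exact Submodule.mem_sup_right (Submodule.mem_span_singleton_self z)
  refine key (Submodule.span F {e, f}) (Submodule.subset_span (by simp))
    (Submodule.subset_span (by simp)) fun u hu _ => ?_
  obtain ⟨a, b, rfl⟩ := Submodule.mem_span_pair.1 hu
  exact he.add_smul hM hf hef a b

/-! ### Bridge to matrices -/

theorem mem_spGL_iff {m : ℕ} (g : GL (Fin m ⊕ Fin m) F) :
    g ∈ Cfsg.spGL m F ↔ glEquiv g ∈ spIso (spB (Fin m) F) := by
  simp only [mem_spIso, glEquiv_apply, spB_eq_sympForm]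
  rfl

/-- Maximality criterion in `Sp_{2m}(F)`: a subgroup `X'` of linear equivalences describing `X`. -/
theorem isMaximalIn_spGL {m : ℕ} (X : Subgroup (GL (Fin m ⊕ Fin m) F))
    (Y : ((Fin m ⊕ Fin m → F) ≃ₗ[F] (Fin m ⊕ Fin m → F)) → Prop)
    (hXY : ∀ g, g ∈ Cfsg.spGL m F → (g ∈ X ↔ Y (glEquiv g)))
    (hne : ∃ g ∈ spIso (spB (Fin m) F), ¬ Y g)
    (h : ∀ M : Subgroup ((Fin m ⊕ Fin m → F) ≃ₗ[F] (Fin m ⊕ Fin m → F)),
      M ≤ spIso (spB (Fin m) F) → (∀ g ∈ spIso (spB (Fin m) F), Y g → g ∈ M) →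
      ∀ g ∈ M, ¬ Y g → ∀ x, Full (spB (Fin m) F) M x) :
    Cfsg.Geo.IsMaximalIn (Cfsg.spGL m F) (X ⊓ Cfsg.spGL m F) := by
  refine ⟨lt_of_le_of_ne inf_le_right fun hh => ?_, fun M h1 h2 => ?_⟩
  · obtain ⟨g, hg, hY⟩ := hne
    obtain ⟨g, rfl⟩ := glEquiv.surjective g
    have hg' := (mem_spGL_iff g).2 hg
    have : g ∈ X ⊓ Cfsg.spGL m F := hh.symm ▸ hg'
    exact hY ((hXY g hg').1 this.1)
  · by_cases hM : M ≤ X
    · exact Or.inl (le_antisymm (le_inf hM h2) h1)
    right
    obtain ⟨g, hg, hgX⟩ := SetLike.not_le_iff_exists.1 hM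
    have hle : M.map glEquiv.toMonoidHom ≤ spIso (spB (Fin m) F) := by
      rintro _ ⟨a, ha, rfl⟩; exact (mem_spGL_iff a).1 (h2 ha)
    have := spIso_le_of_full (spB_isAlt _ _) (spB_nondegenerate _ _) hle
      (h _ hle (fun a ha hY => by
        obtain ⟨a, rfl⟩ := glEquiv.surjective a
        have ha' := (mem_spGL_iff a).2 ha
        exact ⟨a, h1 ⟨(hXY a ha').2 hY, ha'⟩, rfl⟩) (glEquiv g) ⟨g, hg, rfl⟩
        fun hY => hgX ((hXY g (h2 hg)).2 hY))
    refine le_antisymm h2 fun a ha => ?_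
    obtain ⟨b, hb, hab⟩ := this ((mem_spGL_iff a).1 ha)
    exact glEquiv.injective hab ▸ hb

end CfsgLib.ClMax
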